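import Mathlib
import Cfsg.Prelude.Def_Classical
import Cfsg.Agent.Lib.Helper13.OTS.Defs
import Cfsg.Agent.Lib.Helper19.O9U.Defs

set_option autoImplicit false

/-!
# Project O9L (designer helper1): definitions for PART L of S2517 (10u).
`q` odd, a power of `p`: every `N` with `InT9 q p N` (helper19, `O9U/Defs.lean`) is the order of an element of
`F^8 ⋊ Ω(quadFormMinus 3 F a b)`.

By helper28's `o9aff_range_frozen` (Helper28/O9AFF8.lean) the orders of `F^8 ⋊ Ω` are the orders `n` of `g ∈ Ω` and the numbers `p n` for `g ∈ Ω` of order `n` with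
`1 + g + ⋯ + g^(n-1) ≠ 0`.  So everything is about elements of `Ω = [O, O]` of a standard quadratic space in coordinates (`QStd`, helper13's OTS):

* `OmR F d s N`: some standard space of dimension `2d` and type `s` has an element of `Ω` of order `N`;
* `OmV F d s N`: the same with `1 + g + ⋯ + g^(N-1) ≠ 0`;
* `OmN F d s N`: some standard space of dimension `2d` and type `s` has an isometry of determinant `1`, NOT in `Ω`, of order `N`.

Calculus: `OmR ⊕ OmR → OmR`, `OmN ⊕ OmN → OmR` (`SO / Ω` has order `2`: Cartan–Dieudonné + helper16's `master`), `OmV ⊕ OmR → OmV`, squares `OmN (2M) → OmR M`,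
transfer to any standard space of the same dimension and type (helper21's `q_iso_std`).
Pieces: the Singer cycles `σ⁺_k ∈ O⁺_{2k}` (order `q^k - 1`) and `σ⁻_k ∈ O⁻_{2k}` (order `q^k + 1`) act FREELY on the nonzero vectors, hence are odd permutations of `{Q = 1}`
(`q^(k-1)` cycles of even length), hence not in `Ω`, and have determinant `1`; the `p`-cycle on `x₀² + ⋯ + x_(p-1)² + t x_p²` is a unipotent isometry with `1 + u + ⋯ + u^(p-1) ≠ 0`.
-/

namespace Cfsg.Agent.Lib.Helper1.O9L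

open Matrix Module Cfsg.Agent.Lib.Helper13.OTS

/-- `∑_{i<k} g^i` as a matrix -/
def geoS {ι : Type} [Fintype ι] [DecidableEq ι] {F : Type*} [Field F] (g : GL ι F) (k : ℕ) :
    Matrix ι ι F :=
  ∑ i ∈ Finset.range k, ((g ^ i : GL ι F) : Matrix ι ι F)

/-- `g` has order `N`, and a power `g ^ k ≠ 1` fixes no nonzero vector -/
def FreeG {ι : Type} [Fintype ι] [DecidableEq ι] {F : Type*} [Field F] (g : GL ι F) (N : ℕ) : Prop :=
  orderOf g = N ∧
    ∀ k : ℕ, ¬ N ∣ k → ∀ v : ι → F, ((g ^ k : GL ι F) : Matrix ι ι F) *ᵥ v = v → v = 0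

/-- the same for an isometry of an abstract quadratic space -/
structure FreeE {F : Type*} [Field F] {V : Type*} [AddCommGroup V] [Module F V]
    (Q : QuadraticForm F V) (x : Module.End F V) (N : ℕ) : Prop where
  pres : ∀ v, Q (x v) = Q v
  pow : ∀ k : ℕ, x ^ k = 1 ↔ N ∣ k
  free : ∀ k : ℕ, ¬ N ∣ k → ∀ v : V, (x ^ k) v = v → v = 0

/-- `N` is the order of an element of `Ω` of some standard quadratic space of dimension `2 d` and type `s` -/
def OmR (F : Type*) [Field F] [Fintype F] (d : ℕ) (s : ℤ) (N : ℕ) : Prop :=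
  ∃ (ι : Type) (_ : Fintype ι) (_ : DecidableEq ι) (Qs : QuadraticForm F (ι → F)),
    QStd Qs d s ∧ ∃ g : ↥(Cfsg.isometryGroup F (⇑Qs)), g ∈ Cfsg.Omega F (⇑Qs) ∧ orderOf g = N

/-- `N` is the order of an element `g` of `Ω` of some standard quadratic space of dimension `2 d` and type `s` with `1 + g + ⋯ + g^(N-1) ≠ 0` -/
def OmV (F : Type*) [Field F] [Fintype F] (d : ℕ) (s : ℤ) (N : ℕ) : Prop :=
  ∃ (ι : Type) (_ : Fintype ι) (_ : DecidableEq ι) (Qs : QuadraticForm F (ι → F)),
    QStd Qs d s ∧ ∃ g : ↥(Cfsg.isometryGroup F (⇑Qs)), g ∈ Cfsg.Omega F (⇑Qs) ∧ orderOf g = N ∧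
      geoS (g : GL ι F) N ≠ 0

/-- `N` is the order of an isometry of determinant `1`, not in `Ω`, of some standard quadratic space of dimension `2 d` and type `s` -/
def OmN (F : Type*) [Field F] [Fintype F] (d : ℕ) (s : ℤ) (N : ℕ) : Prop :=
  ∃ (ι : Type) (_ : Fintype ι) (_ : DecidableEq ι) (Qs : QuadraticForm F (ι → F)),
    QStd Qs d s ∧ ∃ g : ↥(Cfsg.isometryGroup F (⇑Qs)), g ∉ Cfsg.Omega F (⇑Qs) ∧
      ((g : GL ι F) : Matrix ι ι F).det = 1 ∧ orderOf g = N

/-- anisotropy of the binary form `z₁² + a z₁ z₂ + b z₂²` (the hypothesis of S2517) -/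
def Aniso {F : Type*} [Field F] (a b : F) : Prop :=
  ∀ z₁ z₂ : F, z₁ ^ 2 + a * z₁ * z₂ + b * z₂ ^ 2 = 0 → z₁ = 0 ∧ z₂ = 0

/-- in a finite field of odd order `2 ≠ 0` -/
theorem two_ne_zero_of_odd {F : Type*} [Field F] [Fintype F] (hF : Odd (Fintype.card F)) : (2 : F) ≠ 0 := by
  intro h
  have h1 : ((2 : ℕ) : F) = 0 := by exact_mod_cast h
  obtain ⟨p, hp⟩ := CharP.exists F
  have h2 : p ∣ 2 := (CharP.cast_eq_zero_iff F p 2).mp h1
  have h3 : ((Fintype.card F : ℕ) : F) = 0 := Nat.cast_card_eq_zero F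
  have h4 : p ∣ Fintype.card F := (CharP.cast_eq_zero_iff F p _).mp h3
  have hpp : p.Prime := CharP.char_is_prime F p
  have h5 : p = 2 := (Nat.prime_dvd_prime_iff_eq hpp Nat.prime_two).mp h2
  rw [h5] at h4
  obtain ⟨t, ht⟩ := hF
  omega

/-- the characteristic divides the order of the field -/
theorem char_dvd_card {F : Type*} [Field F] [Fintype F] (p : ℕ) [CharP F p] : p ∣ Fintype.card F :=
  (CharP.cast_eq_zero_iff F p _).mp (Nat.cast_card_eq_zero F)

/-- a natural number prime to the characteristic is nonzero in `F` -/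
theorem cast_ne_zero_of_not_dvd {F : Type*} [Field F] (p : ℕ) [CharP F p] (m : ℕ) (h : ¬ p ∣ m) : (m : F) ≠ 0 :=
  fun h0 => h ((CharP.cast_eq_zero_iff F p m).mp h0)

end Cfsg.Agent.Lib.Helper1.O9L
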